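import Cfsg.Agent.Lib.CosetEnum.Defs

/-! Generated table data. -/

set_option autoImplicit false
set_option maxRecDepth 20000

namespace Cfsg.Lib.HeldType.Amalgam.He0

open Cfsg.Lib.CosetEnum

/-- Table data. -/
def tabC_0 : Tab :=
  (.node 22 (.node 11 (.node 5 (.node 2 (.node 1 (.leaf 0x4000000000000001c) (.leaf 0x4000000000000001d)) (.node 1 (.leaf 0x4000000000000001e) (.node 1 (.leaf 0x4000000000000001f) (.leaf 0x10000000000100000000020)))) (.node 3 (.node 1 (.leaf 0x10000680000000006800016000068000000000680000100000000009) (.node 1 (.leaf 0x100006800017000058000000000680001600005c00018000068000010000000000f) (.leaf 0x400001000068000000000580000000006800018000004000080000080000d))) (.node 1 (.leaf 0x10000740000100005c000180000040000100000000000) (.node 1 (.leaf 0x1000004000180000000001b0000000001d0000040000200000000006) (.leaf 0x1000070000000000040001d0000080000500000c00003))))) (.node 5 (.node 2 (.node 1 (.leaf 0x10000800001b000070000200000080001f0000080000700000c00007) (.leaf 0x10000080001d00000400016000060000010000080000700000c00008)) (.node 1 (.leaf 0x100000c000020000780001d0000780000200000c0000700001000004) (.node 1 (.leaf 0x40002300000c000020000780001d0000080002100000c000070000100000b)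 (.leaf 0x40002300000c000020000780001d00007c0001e0000080002200000c0000900001000011)))) (.node 3 (.node 1 (.leaf 0x40000100000c000020000040000300000000021) (.node 1 (.leaf 0x1000004000040000040000200000000022) (.leaf 0x100008c00003000084000200000180000500001c00001))) (.node 1 (.leaf 0x10000a0000030000800001c0000180000500001c00002) (.node 1 (.leaf 0x10000180002000000c0002400000c000200000180000700001c00005) (.leaf 0x4000060000680000100007c000010000680001b0000180000800001c0000c)))))) (.node 11 (.node 5 (.node 2 (.node 1 (.leaf 0x10000a80002b0000880000300008c000260000040001a0000180000700001c00010) (.leaf 0x40000800006c000060000a00002500000c00021000024000080000280000e)) (.node 1 (.leaf 0x1000028000030000240002d0000200000600002c000070000300000a) (.node 1 (.leaf 0x10000300000800006c000200000080002600008c00026000008000090000b40000c0000480000d00004c00014) (.leaf 0x10000440000b0000ac000290000a80002c0000800001a000000000080000b40000e0000500000d00005400014)))) (.node 3 (.node 1 (.leaf 0x100004c0000d000020000060000a40002b00002c000110000c0000140000380000f0000540000d00005800013) (.node 1 (.leaf 0x400010000028000030000800001b0000200000c0000bc000120000300000d00004c000310000540000e00004000012)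 (.leaf 0x10000400003200003c0000300002800018))) (.node 1 (.leaf 0x10000b8000330000b40000300002400015) (.node 1 (.leaf 0x1000028000330000240000300000c0001b) (.leaf 0x100002c00034000020000030000040001b))))) (.node 5 (.node 2 (.node 1 (.leaf 0x100008c000350000800000300000400016) (.leaf 0x1000090000350000080000300000800018)) (.node 1 (.leaf 0x10000a8000360000000000300000000018) (.node 1 (.leaf 0x4000040000e00003700001c0000400002000019) (.leaf 0x4000270000e000037000020000040000240001b)))) (.node 3 (.node 1 (.leaf 0x4000070000d8000390000140000400001800019) (.node 1 (.leaf 0x4000080000d800039000064000040000000001b) (.leaf 0x10000e4000360000dc000380000040000500000000017))) (.node 1 (.leaf 0x10000e4000360000000000300000000018) (.node 1 (.leaf 0x10000f40003b0000e80003c0000140000500000000019) (.leaf 0x1000068000360000e4000030000000001a)))))))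

end Cfsg.Lib.HeldType.Amalgam.He0
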