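import Cfsg.Agent.Lib.CosetEnum.Defs

/-! Generated table data. -/

set_option autoImplicit false
set_option maxRecDepth 20000

namespace Cfsg.Lib.HeldType.Amalgam.He0

open Cfsg.Lib.CosetEnum

/-- Table data. -/
def tabF_0 : Tab :=
  (.node 1 (.leaf 0x400000000000000000300000000004800001f0000000000400000df00000000002800013f00000000002800011f00000000003800001f00000000002000005f00000000002000003f00000000003800003f00000000002000007f00000000006000013f00000000005800015f00000000008800021f0000000000a00002c20000000000900002a70000000000680002670000000000580001810000000000480001410000000000180000e60000000000380000e00000000000380000e40000000000380000e20000000000200000e30000000000280000470000000000200000460000000000200000800000000000200000840000000000200000820000000000180000600000000000180000630000000000080000620000000000100000400000000000100000410000000000100000420000000000080000230000000000080000200000000000080000060000000000000000070000000000000000020000000000000000010000000000000000000000000000800002c60000000000780002a00000000000700002860000000000680002600000000000600002420000000000580002240000000000500002040000000000500001e20000000000480001c40000000000480001a20000000000380001870000000000200001670000000000180001470000000000080001270000000000080001050000000000080000e10000000000000000c50000000000100000a5000000000018000081000000000010000064000000000000000043000000000000000024) (.leaf 0x6000000000000000005))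

end Cfsg.Lib.HeldType.Amalgam.He0
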